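import Cfsg.Agent.Forms.Alternating
import Cfsg.Agent.Linear.Orders
import Cfsg.Agent.SympSub.Count

/-!
Alternating forms with a diagonal similitude; the index of the symplectic similitudes in `SL`.
-/

namespace Cfsg.Agent.Elusive

open Finset

variable {F : Type*} [Field F]

theorem even_finrank_of_alt {V : Type*} [AddCommGroup V] [Module F V] [FiniteDimensional F V]
    {B : LinearMap.BilinForm F V} (hA : B.IsAlt) (hB : ∀ v, (∀ w, B v w = 0) → v = 0) :
    Even (Module.finrank F V) := by
  have hB' : B.Nondegenerate := ⟨hB, fun w hw => hB w fun v => by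
    rw [← LinearMap.IsAlt.neg hA v w, hw v, neg_zero]⟩
  obtain ⟨m, b, -, -, -⟩ := Forms.exists_symplectic_basis hA hB'
  rw [Module.finrank_eq_card_basis b, Fintype.card_sum, Fintype.card_fin]
  exact ⟨m, rfl⟩

/-- For a diagonal similitude the eigenspaces of `μ` and `c / μ` are in duality. -/
theorem card_eigen_pair {ι : Type*} [Fintype ι] [DecidableEq ι] [DecidableEq F]
    {B : LinearMap.BilinForm F (ι → F)} (hA : B.IsAlt) (hB : ∀ v, (∀ w, B v w = 0) → v = 0)
    (l : ι → F) {c : F}
    (hl : ∀ a b, l a * l b * B (Pi.single a 1) (Pi.single b 1) = c * B (Pi.single a 1) (Pi.single b 1))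
    (μ ν : F) (hμν : ∀ x, μ * x = c ↔ x = ν) :
    (univ.filter fun a => l a = μ).card ≤ (univ.filter fun a => l a = ν).card ∧
      (μ = ν → Even (univ.filter fun a => l a = μ).card) := by
  classical
  let S := {a // l a = μ}
  let T := {a // l a = ν}
  let E : (S → F) →ₗ[F] (ι → F) := Function.ExtendByZero.linearMap F Subtype.val
  have hE : Function.Injective E := fun u v h => funext fun s => by
    have := congrFun h s.1
    simpa [E, Subtype.val_injective.extend_apply] using this
  have hzero : ∀ (u : S → F) (b : ι), l b ≠ ν → B (E u) (Pi.single b 1) = 0 := by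
    intro u b hb
    have hu : E u = ∑ a, E u a • (Pi.single a (1 : F)) := (pi_eq_sum_univ' (E u))
    rw [hu, map_sum, LinearMap.sum_apply]
    refine sum_eq_zero fun a _ => ?_
    rw [map_smul, LinearMap.smul_apply, smul_eq_mul]
    by_cases ha : l a = μ
    · have h1 := hl a b
      rw [ha] at h1
      by_cases h0 : B (Pi.single a 1) (Pi.single b 1) = 0
      · rw [h0, mul_zero]
      · exact absurd ((hμν _).1 (mul_right_cancel₀ h0 h1)) hb
    · rw [show E u a = 0 from Function.extend_apply' u (0 : ι → F) a fun ⟨s, hs⟩ => ha (hs ▸ s.2), zero_mul]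
  let Φ : (S → F) →ₗ[F] (T → F) :=
    { toFun := fun u t => B (E u) (Pi.single t.1 1)
      map_add' := fun u v => funext fun t => by simp [map_add]
      map_smul' := fun k u => funext fun t => by simp [map_smul] }
  have hker : ∀ u, Φ u = 0 → u = 0 := by
    intro u hu
    refine hE (Eq.trans (hB _ fun w => ?_) (map_zero E).symm)
    rw [pi_eq_sum_univ' w, map_sum]
    refine sum_eq_zero fun b _ => ?_
    rw [map_smul, smul_eq_mul]
    by_cases hb : l b = ν
    · rw [show B (E u) (Pi.single b 1) = 0 from congrFun hu ⟨b, hb⟩, mul_zero]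
    · rw [hzero u b hb, mul_zero]
  refine ⟨?_, fun h => ?_⟩
  · have := LinearMap.finrank_le_finrank_of_injective ((injective_iff_map_eq_zero Φ).2 hker)
    rw [Module.finrank_fintype_fun_eq_card, Module.finrank_fintype_fun_eq_card] at this
    simpa [S, T, Fintype.card_subtype] using this
  · subst h
    have := even_finrank_of_alt (V := S → F) (B := B.compl₁₂ E E) (fun u => hA (E u)) fun u hu =>
      hker u (funext fun t => by
        have h1 := hu (Pi.single t 1)
        rw [LinearMap.compl₁₂_apply] at h1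
        have h2 : E (Pi.single t 1) = Pi.single t.1 1 := by
          funext b
          by_cases hb : l b = μ
          · show Function.extend Subtype.val _ _ b = _
            rw [show b = (⟨b, hb⟩ : S).1 from rfl, Subtype.val_injective.extend_apply]
            rcases eq_or_ne (⟨b, hb⟩ : S) t with h | h
            · subst h; rw [Pi.single_eq_same, Pi.single_eq_same]
            · rw [Pi.single_eq_of_ne h, Pi.single_eq_of_ne fun hbt => h (Subtype.ext hbt)]
          · show Function.extend Subtype.val _ _ b = _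
            rw [Function.extend_apply' _ _ b (fun ⟨s, hs⟩ => hb (hs ▸ s.2)), Pi.single_eq_of_ne]
            · rfl
            · exact fun hbt => hb (hbt ▸ t.2)
        rw [h2] at h1
        exact h1)
    rw [Module.finrank_fintype_fun_eq_card] at this
    simpa [S, Fintype.card_subtype] using this

theorem prod_range_even_odd (f : ℕ → ℕ) (d : ℕ) :
    ∏ k ∈ range (2 * d), f (k + 1) = (∏ k ∈ range d, f (2 * k + 1)) * ∏ k ∈ range d, f (2 * (k + 1)) := by
  induction d with
  | zero => simp
  | succ d ih =>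
    rw [show 2 * (d + 1) = 2 * d + 1 + 1 by ring, prod_range_succ, prod_range_succ, ih, prod_range_succ,
      prod_range_succ]
    ring_nf

/-- Primes in the index of a subgroup of `SL` containing the isometries of determinant one. -/
theorem dvd_index_similitude [Fintype F] {d : ℕ} (hd : 0 < d)
    (B : LinearMap.BilinForm F (Fin (2 * d) → F)) (hA : B.IsAlt) (hB : B.Nondegenerate)
    (H : Subgroup (Matrix.SpecialLinearGroup (Fin (2 * d)) F))
    (hH : ∀ x : Matrix.SpecialLinearGroup (Fin (2 * d)) F,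
      (∀ u v, B (Matrix.toLin' (x : Matrix (Fin (2 * d)) (Fin (2 * d)) F) u)
        (Matrix.toLin' (x : Matrix (Fin (2 * d)) (Fin (2 * d)) F) v) = B u v) → x ∈ H)
    {r : ℕ} (hr : r.Prime) (hr2 : r ≠ 2) (hdvd : r ∣ H.index) :
    r ∣ Fintype.card F ∨ ∃ k < d, 0 < k ∧ r ∣ Fintype.card F ^ (2 * k + 1) - 1 := by
  classical
  set q := Fintype.card F with hq
  have : NeZero (2 * d) := ⟨by omega⟩
  have : Nonempty (Fin (2 * d)) := ⟨0⟩
  obtain ⟨e, he⟩ := SympSub.exists_iso_sympBil hA hB (k := d) (by rw [Module.finrank_fin_fun])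
  have hcardK : Nat.card (SympSub.isoGroup B) = SympSub.spOrder q d := by
    rw [Nat.card_congr (SympSub.isoCongr e he).toEquiv, ← Nat.card_congr (SympSub.spEquiv d F).toEquiv,
      SympSub.card_symplecticGroup]
  let toL : SympSub.isoGroup B →* ((Fin (2 * d) → F) ≃ₗ[F] (Fin (2 * d) → F)) := (SympSub.isoGroup B).subtype
  let δ : SympSub.isoGroup B →* Fˣ := LinearEquiv.det.comp toL
  -- determinants of isometries are signs
  have hδ : ∀ g, δ g * δ g = 1 := by
    intro g
    let L : (Fin (2 * d) → F) →ₗ[F] (Fin (2 * d) → F) := (toL g : _ ≃ₗ[F] _)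
    have hM : (LinearMap.toMatrix' L).transpose * LinearMap.BilinForm.toMatrix' B * LinearMap.toMatrix' L = LinearMap.BilinForm.toMatrix' B := by
      rw [← LinearMap.BilinForm.toMatrix'_comp]
      exact congrArg _ (LinearMap.ext₂ fun u v => g.2 u v)
    have hdet := congrArg Matrix.det hM
    rw [Matrix.det_mul, Matrix.det_mul, Matrix.det_transpose, LinearMap.det_toMatrix'] at hdet
    have hne : (LinearMap.BilinForm.toMatrix' B).det ≠ 0 :=
      Matrix.nondegenerate_iff_det_ne_zero.1 hB.toMatrix'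
    refine Units.ext ?_
    rw [Units.val_mul, Units.val_one]
    show ((LinearEquiv.det (toL g) : Fˣ) : F) * (LinearEquiv.det (toL g) : Fˣ) = 1
    rw [LinearEquiv.coe_det]
    exact mul_right_cancel₀ hne (by linear_combination hdet)
  have hrange : Nat.card δ.range ∣ 2 := by
    have hle : δ.range ≤ rootsOfUnity 2 F := by
      rintro _ ⟨g, rfl⟩
      rw [mem_rootsOfUnity, pow_two, hδ]
    have h1 := Subgroup.card_dvd_of_le hle
    have h2 : Nat.card (rootsOfUnity 2 F) ≤ 2 := by
      exact card_rootsOfUnity F 2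
    have h3 := Nat.card_pos (α := rootsOfUnity 2 F)
    refine h1.trans ?_
    interval_cases (Nat.card (rootsOfUnity 2 F)) <;> norm_num
  let ψ : δ.ker →* H :=
    { toFun := fun g => ⟨⟨LinearMap.toMatrix' ((toL g.1 : _ ≃ₗ[F] _) : (Fin (2 * d) → F) →ₗ[F] (Fin (2 * d) → F)),
        by
          rw [LinearMap.det_toMatrix', ← LinearEquiv.coe_det]
          exact congrArg Units.val (MonoidHom.mem_ker.1 g.2)⟩,
        hH _ fun u v => by
          simp only [Matrix.toLin'_toMatrix']
          exact g.1.2 u v⟩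
      map_one' := Subtype.ext (Subtype.ext (LinearMap.toMatrix'_id))
      map_mul' := fun g h => Subtype.ext (Subtype.ext (LinearMap.toMatrix'_mul _ _)) }
  have hψ : Function.Injective ψ := by
    intro g h hgh
    have := LinearMap.toMatrix'.injective (congrArg (fun z : H => ((z.1 : Matrix.SpecialLinearGroup (Fin (2 * d)) F) : Matrix (Fin (2 * d)) (Fin (2 * d)) F)) hgh)
    exact Subtype.ext (Subtype.ext (LinearEquiv.toLinearMap_injective this))
  have hkH : Nat.card δ.ker ∣ Nat.card H := Subgroup.card_dvd_of_injective ψ hψ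
  have hKdvd : r * SympSub.spOrder q d ∣ 2 * Nat.card (Matrix.SpecialLinearGroup (Fin (2 * d)) F) := by
    rw [← H.card_mul_index, ← hcardK, ← δ.ker.card_mul_index, Subgroup.index_ker]
    calc r * (Nat.card δ.ker * Nat.card δ.range) = Nat.card δ.range * (Nat.card δ.ker * r) := by ring
      _ ∣ 2 * (Nat.card H * H.index) := mul_dvd_mul hrange (mul_dvd_mul hkH hdvd)
  -- the orders
  have hGL := Linear.card_GL_eq_mul_card_SL (F := F) (ι := Fin (2 * d))
  rw [Linear.card_GL_factor, Nat.card_units, Nat.card_eq_fintype_card (α := F)] at hGL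
  have hprod : ∏ i : Fin (2 * d), (q ^ (2 * d - (i : ℕ)) - 1) =
      ((q - 1) * ∏ k ∈ range (d - 1), (q ^ (2 * (k + 1) + 1) - 1)) *
        ∏ k ∈ range d, (q ^ (2 * (k + 1)) - 1) := by
    have h1 : ∏ i : Fin (2 * d), (q ^ (2 * d - (i : ℕ)) - 1) = ∏ k ∈ range (2 * d), (q ^ (k + 1) - 1) := by
      rw [Fin.prod_univ_eq_prod_range (fun i => q ^ (2 * d - i) - 1),
        ← Finset.prod_range_reflect (fun k => q ^ (k + 1) - 1)]
      refine prod_congr rfl fun i hi => ?_
      rw [mem_range] at hi
      rw [show 2 * d - 1 - i + 1 = 2 * d - i by omega]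
    rw [h1, prod_range_even_odd (fun k => q ^ k - 1) d]
    congr 1
    rw [show d = (d - 1) + 1 by omega, prod_range_succ', show d - 1 + 1 - 1 = d - 1 by omega, mul_comm]
    simp
  rw [← hq, hprod] at hGL
  have hq1 : 1 < q := Fintype.one_lt_card
  have hpos : 0 < ∏ k ∈ range d, (q ^ (2 * (k + 1)) - 1) :=
    prod_pos fun k _ => Nat.sub_pos_of_lt (Nat.one_lt_pow (by omega) hq1)
  obtain ⟨c, hc⟩ := hKdvd
  rw [SympSub.spOrder] at hc
  set E := ∏ k ∈ range d, (q ^ (2 * (k + 1)) - 1)
  set O := ∏ k ∈ range (d - 1), (q ^ (2 * (k + 1) + 1) - 1)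
  set s := 2 * d * (2 * d - 1) / 2
  have key : r * (q ^ d ^ 2 * c * (q - 1)) * E = 2 * q ^ s * (q - 1) * O * E := by
    calc r * (q ^ d ^ 2 * c * (q - 1)) * E = (r * (q ^ d ^ 2 * E) * c) * (q - 1) := by ring
      _ = 2 * ((q - 1) * Nat.card (Matrix.SpecialLinearGroup (Fin (2 * d)) F)) := by rw [← hc]; ring
      _ = 2 * (q ^ s * ((q - 1) * O * E)) := by rw [← hGL]
      _ = _ := by ring
  have key2 : r * (q ^ d ^ 2 * c) * (q - 1) = 2 * q ^ s * O * (q - 1) := by
    have := Nat.eq_of_mul_eq_mul_right hpos key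
    linarith [this, show r * (q ^ d ^ 2 * c * (q - 1)) = r * (q ^ d ^ 2 * c) * (q - 1) by ring,
      show 2 * q ^ s * (q - 1) * O = 2 * q ^ s * O * (q - 1) by ring]
  have key3 := Nat.eq_of_mul_eq_mul_right (by omega : 0 < q - 1) key2
  have hdiv : r ∣ 2 * q ^ s * O := ⟨_, key3.symm⟩
  rcases hr.dvd_mul.1 hdiv with h | h
  · rcases hr.dvd_mul.1 h with h | h
    · exact absurd ((Nat.prime_dvd_prime_iff_eq hr Nat.prime_two).1 h) hr2
    · exact Or.inl (hr.dvd_of_dvd_pow h)
  · obtain ⟨k, hk, hk'⟩ := (Prime.dvd_finsetProd_iff hr.prime _).1 h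
    exact Or.inr ⟨k + 1, by have := mem_range.1 hk; omega, by omega, hk'⟩

end Cfsg.Agent.Elusive
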