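import Mathlib

/-!
Two by two matrices of determinant one: commutants, conjugacy by trace, quaternion subgroups.
-/

namespace Cfsg.Agent.Elusive

open Matrix

variable {F : Type*} [Field F]

/-- A two by two matrix is scalar or has a commutative commutant. -/
theorem commute_of_commute_two {Z M N : Matrix (Fin 2) (Fin 2) F}
    (hZ : ∀ z : F, Z ≠ z • (1 : Matrix (Fin 2) (Fin 2) F)) (hM : Z * M = M * Z) (hN : Z * N = N * Z) :
    M * N = N * M := by
  have e00 := congrFun (congrFun hM 0) 0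
  have e01 := congrFun (congrFun hM 0) 1
  have e10 := congrFun (congrFun hM 1) 0
  have f00 := congrFun (congrFun hN 0) 0
  have f01 := congrFun (congrFun hN 0) 1
  have f10 := congrFun (congrFun hN 1) 0
  simp only [Matrix.mul_apply, Fin.sum_univ_two] at e00 e01 e10 f00 f01 f10
  have key : Z 0 1 ≠ 0 ∨ Z 1 0 ≠ 0 ∨ Z 0 0 - Z 1 1 ≠ 0 := by
    by_contra! h
    refine hZ (Z 0 0) ?_
    ext i j
    fin_cases i <;> fin_cases j <;> simp [h.1, h.2.1]
    exact (sub_eq_zero.1 h.2.2).symm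
  obtain ⟨g1, g2, g3⟩ : M 0 1 * N 1 0 = N 0 1 * M 1 0 ∧
      M 0 1 * (N 1 1 - N 0 0) = N 0 1 * (M 1 1 - M 0 0) ∧
      M 1 0 * (N 1 1 - N 0 0) = N 1 0 * (M 1 1 - M 0 0) := by
    rcases key with h | h | h
    · have g1 : M 0 1 * N 1 0 = N 0 1 * M 1 0 := mul_left_cancel₀ h
        (by linear_combination (M 0 1) * f00 - (N 0 1) * e00)
      exact ⟨g1, mul_left_cancel₀ h (by linear_combination (M 0 1) * f01 - (N 0 1) * e01),
        mul_left_cancel₀ h (by linear_combination (M 1 0) * f01 - (N 1 0) * e01 + (Z 0 0 - Z 1 1) * g1)⟩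
    · have g1 : M 0 1 * N 1 0 = N 0 1 * M 1 0 := mul_left_cancel₀ h
        (by linear_combination (M 1 0) * f00 - (N 1 0) * e00)
      exact ⟨g1, mul_left_cancel₀ h (by linear_combination (N 0 1) * e10 - (M 0 1) * f10 - (Z 0 0 - Z 1 1) * g1),
        mul_left_cancel₀ h (by linear_combination (N 1 0) * e10 - (M 1 0) * f10)⟩
    · have g3 : M 1 0 * (N 1 1 - N 0 0) = N 1 0 * (M 1 1 - M 0 0) := mul_left_cancel₀ h
        (by linear_combination (M 1 1 - M 0 0) * f10 - (N 1 1 - N 0 0) * e10)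
      exact ⟨mul_left_cancel₀ h (by linear_combination (N 1 0) * e01 - (M 1 0) * f01 + (Z 0 1) * g3),
        mul_left_cancel₀ h (by linear_combination (N 1 1 - N 0 0) * e01 - (M 1 1 - M 0 0) * f01), g3⟩
  ext i j
  simp only [Matrix.mul_apply, Fin.sum_univ_two]
  fin_cases i <;> fin_cases j <;> simp only [Fin.zero_eta, Fin.mk_one]
  · linear_combination g1
  · linear_combination g2
  · linear_combination -g3
  · linear_combination -g1

/-- Cayley–Hamilton. -/
theorem mul_self_two (x : Matrix (Fin 2) (Fin 2) F) :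
    x * x = (x 0 0 + x 1 1) • x - x.det • (1 : Matrix (Fin 2) (Fin 2) F) := by
  ext i j
  fin_cases i <;> fin_cases j <;> simp [Matrix.mul_apply, Fin.sum_univ_two, Matrix.det_fin_two] <;> ring

theorem coeff_eq_of_nonscalar {x : Matrix (Fin 2) (Fin 2) F} (hx : ∀ z : F, x ≠ z • (1 : Matrix (Fin 2) (Fin 2) F))
    {a b a' b' : F} (h : a • x + b • (1 : Matrix (Fin 2) (Fin 2) F) = a' • x + b' • (1 : Matrix (Fin 2) (Fin 2) F)) :
    a = a' ∧ b = b' := by
  have h' : (a - a') • x = (b' - b) • (1 : Matrix (Fin 2) (Fin 2) F) := by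
    rw [sub_smul, sub_smul, sub_eq_sub_iff_add_eq_add, h, add_comm]
  by_cases ha : a = a'
  · subst ha
    rw [sub_self, zero_smul] at h'
    have := congrFun (congrFun h' 0) 0
    simp at this
    exact ⟨rfl, (sub_eq_zero.1 this.symm).symm⟩
  · exfalso
    refine hx ((a - a')⁻¹ * (b' - b)) ?_
    rw [← smul_smul, ← h', smul_smul, inv_mul_cancel₀ (sub_ne_zero.2 ha), one_smul]

/-- The norm form of a nondegenerate quadratic extension is onto. -/
theorem exists_norm_eq [Fintype F] (h2 : (2 : F) ≠ 0) {t : F} (ht : t * t ≠ 4) (c : F) :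
    ∃ a b : F, a * a + t * a * b + b * b = c := by
  have hF : ringChar F ≠ 2 := by
    intro h
    have h0 : ((2 : ℕ) : F) = 0 := by rw [ringChar.spec, h]
    exact h2 (by simpa using h0)
  have hs : 4 - t * t ≠ 0 := sub_ne_zero.2 (Ne.symm ht)
  obtain ⟨u, v, huv⟩ := FiniteField.exists_root_sum_quadratic
    (f := Polynomial.C (4 - t * t) * Polynomial.X ^ 2)
    (g := Polynomial.X ^ 2 - Polynomial.C (4 * c))
    (Polynomial.degree_C_mul_X_pow 2 hs) (Polynomial.degree_X_pow_sub_C (by norm_num) _)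
    (by rw [← Nat.odd_iff, Nat.odd_iff, ← FiniteField.odd_card_of_char_ne_two hF])
  simp only [Polynomial.eval_mul, Polynomial.eval_C, Polynomial.eval_pow, Polynomial.eval_X,
    Polynomial.eval_sub] at huv
  have h4 : (4 : F) ≠ 0 := by
    rw [show (4 : F) = 2 * 2 by norm_num]
    exact mul_ne_zero h2 h2
  refine ⟨(v - t * u) / 2, u, mul_left_cancel₀ h4 ?_⟩
  field_simp
  linear_combination huv

/-- Elements of `SL₂` of the same trace `t ≠ ±2` are conjugate. -/
theorem exists_conj_of_trace [Fintype F] (h2 : (2 : F) ≠ 0) {x y : Matrix (Fin 2) (Fin 2) F}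
    (hx : x.det = 1) (hy : y.det = 1) (htr : x 0 0 + x 1 1 = y 0 0 + y 1 1)
    (ht : (x 0 0 + x 1 1) * (x 0 0 + x 1 1) ≠ 4) :
    ∃ g : Matrix (Fin 2) (Fin 2) F, g.det = 1 ∧ x * g = g * y := by
  classical
  set t := x 0 0 + x 1 1 with ht'
  have key : ∀ z : Matrix (Fin 2) (Fin 2) F, z.det = 1 → z 0 0 + z 1 1 = t →
      ∃ P : Matrix (Fin 2) (Fin 2) F, P.det ≠ 0 ∧ z * P = P * !![0, -1; 1, t] := by
    intro z hz hzt
    rw [Matrix.det_fin_two] at hz
    by_cases h10 : z 1 0 = 0
    · by_cases h01 : z 0 1 = 0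
      · refine ⟨!![1, z 0 0; 1, z 1 1], ?_, ?_⟩
        · rw [Matrix.det_fin_two]
          simp only [Matrix.of_apply, Matrix.cons_val', Matrix.cons_val_zero, Matrix.cons_val_one,
            Matrix.empty_val', Matrix.cons_val_fin_one]
          intro h
          apply ht
          rw [← hzt]
          linear_combination (z 1 1 - z 0 0) * h + 4 * hz + 4 * z 0 1 * h10
        · ext i j
          fin_cases i <;> fin_cases j <;> simp [Matrix.mul_apply, Fin.sum_univ_two, h01, h10]
          · linear_combination (z 0 0) * hzt - hz - (z 0 1) * h10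
          · linear_combination (z 1 1) * hzt - hz - (z 0 1) * h10
      · refine ⟨!![0, z 0 1; 1, z 1 1], ?_, ?_⟩
        · rw [Matrix.det_fin_two]; simpa using h01
        · ext i j
          fin_cases i <;> fin_cases j <;> simp [Matrix.mul_apply, Fin.sum_univ_two]
          · linear_combination (z 0 1) * hzt
          · linear_combination (z 1 1) * hzt - hz
    · refine ⟨!![1, z 0 0; 0, z 1 0], ?_, ?_⟩
      · rw [Matrix.det_fin_two]; simpa using h10
      · ext i j
        fin_cases i <;> fin_cases j <;> simp [Matrix.mul_apply, Fin.sum_univ_two]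
        · linear_combination (z 0 0) * hzt - hz
        · linear_combination (z 1 0) * hzt
  obtain ⟨P, hP, hxP⟩ := key x hx rfl
  obtain ⟨Q, hQ, hyQ⟩ := key y hy htr.symm
  obtain ⟨a, b, hab⟩ := exists_norm_eq h2 ht (Q.det / P.det)
  let C : Matrix (Fin 2) (Fin 2) F := !![0, -1; 1, t]
  let N : Matrix (Fin 2) (Fin 2) F := a • (1 : Matrix (Fin 2) (Fin 2) F) + b • C
  have hN : N.det = Q.det / P.det := by
    rw [← hab, Matrix.det_fin_two]
    simp [N, C]
    ring
  have hQQ : Q * Q⁻¹ = 1 := Matrix.mul_nonsing_inv Q (Ne.isUnit hQ)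
  have hQQ' : Q⁻¹ * Q = 1 := Matrix.nonsing_inv_mul Q (Ne.isUnit hQ)
  refine ⟨P * N * Q⁻¹, ?_, ?_⟩
  · rw [Matrix.det_mul, Matrix.det_mul, hN, Matrix.det_nonsing_inv, Ring.inverse_eq_inv']
    field_simp
  · have hCN : C * N = N * C := by simp [N, Matrix.mul_add, Matrix.add_mul]
    have hy' : Q⁻¹ * y = C * Q⁻¹ := by
      have := congrArg (fun M => Q⁻¹ * M * Q⁻¹) hyQ
      simp only [← Matrix.mul_assoc, hQQ', Matrix.one_mul] at this
      rwa [Matrix.mul_assoc (Q⁻¹ * y), hQQ, Matrix.mul_one] at this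
    calc x * (P * N * Q⁻¹) = P * C * N * Q⁻¹ := by rw [← Matrix.mul_assoc, ← Matrix.mul_assoc, hxP]
      _ = P * N * (C * Q⁻¹) := by rw [Matrix.mul_assoc P C N, hCN]; simp only [Matrix.mul_assoc]
      _ = P * N * Q⁻¹ * y := by rw [← hy']; simp only [Matrix.mul_assoc]

end Cfsg.Agent.Elusive
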