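import Mathlib

/-!
Kernel counts of nilpotent maps: enough of Jordan theory to compare block sizes of invariant summands.
-/

namespace Cfsg.Agent.Elusive

open Submodule

variable {F : Type*} [Field F] {V : Type*} [AddCommGroup V] [Module F V]

/-- The image of `W ∩ ker N^(k+1)` under `N^k`. -/
def layerSpace (N : Module.End F V) (W : Submodule F V) (k : ℕ) : Submodule F V :=
  (W ⊓ LinearMap.ker (N ^ (k + 1))).map (N ^ k)

/-- The number of blocks of size more than `k` of `N` on `W`. -/
noncomputable def layerDim (N : Module.End F V) (W : Submodule F V) (k : ℕ) : ℕ :=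
  Module.finrank F (layerSpace N W k)

theorem pow_mem_of_invariant {N : Module.End F V} {W : Submodule F V} (hW : ∀ v ∈ W, N v ∈ W) (k : ℕ) :
    ∀ v ∈ W, (N ^ k) v ∈ W := by
  induction k with
  | zero => intro v hv; simpa using hv
  | succ k ih => intro v hv; rw [pow_succ', Module.End.mul_apply]; exact hW _ (ih v hv)

variable [FiniteDimensional F V]

theorem layerDim_succ_le {N : Module.End F V} {W : Submodule F V} (hW : ∀ v ∈ W, N v ∈ W) (k : ℕ) :
    layerDim N W (k + 1) ≤ layerDim N W k := by
  refine Submodule.finrank_mono ?_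
  rintro _ ⟨v, ⟨hv, hv'⟩, rfl⟩
  refine ⟨N v, ⟨hW v hv, ?_⟩, ?_⟩
  · show (N ^ (k + 1)) (N v) = 0
    rw [← Module.End.mul_apply, ← pow_succ]
    exact hv'
  · rw [← Module.End.mul_apply, ← pow_succ]

theorem sum_layerDim (N : Module.End F V) (W : Submodule F V) (k : ℕ) :
    ∑ i ∈ Finset.range k, layerDim N W i = Module.finrank F ↥(W ⊓ LinearMap.ker (N ^ k)) := by
  induction k with
  | zero =>
    rw [Finset.range_zero, Finset.sum_empty, pow_zero, Module.End.one_eq_id, LinearMap.ker_id,
      inf_bot_eq, finrank_bot]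
  | succ k ih =>
    rw [Finset.sum_range_succ, ih]
    set W' := W ⊓ LinearMap.ker (N ^ (k + 1))
    have h := LinearMap.finrank_range_add_finrank_ker ((N ^ k).domRestrict W')
    rw [LinearMap.range_domRestrict, LinearMap.ker_domRestrict,
      ← LinearEquiv.finrank_eq (Submodule.equivMapOfInjective W'.subtype W'.injective_subtype
        (comap W'.subtype (LinearMap.ker (N ^ k)))).symm, Submodule.map_comap_subtype] at h
    have he : W' ⊓ LinearMap.ker (N ^ k) = W ⊓ LinearMap.ker (N ^ k) := by
      rw [show W' = W ⊓ LinearMap.ker (N ^ (k + 1)) from rfl, inf_assoc]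
      congr 1
      refine inf_eq_right.2 fun v hv => ?_
      rw [LinearMap.mem_ker] at hv ⊢
      rw [pow_succ', Module.End.mul_apply, hv, map_zero]
    rw [he] at h
    rw [← h, layerDim, layerSpace, add_comm]

theorem layerDim_split {N : Module.End F V} {W R : Submodule F V} (hWR : IsCompl W R)
    (hW : ∀ v ∈ W, N v ∈ W) (hR : ∀ v ∈ R, N v ∈ R) (k : ℕ) :
    layerDim N ⊤ k = layerDim N W k + layerDim N R k := by
  have hsup : layerSpace N W k ⊔ layerSpace N R k = layerSpace N ⊤ k := by
    refine le_antisymm (sup_le (map_mono (inf_le_inf_right _ le_top)) (map_mono (inf_le_inf_right _ le_top))) ?_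
    rintro _ ⟨v, ⟨-, hv⟩, rfl⟩
    obtain ⟨a, ha, b, hb, rfl⟩ := mem_sup.1 (hWR.sup_eq_top.symm ▸ mem_top (x := v))
    have h0 : (N ^ (k + 1)) a = 0 ∧ (N ^ (k + 1)) b = 0 := by
      have h : (N ^ (k + 1)) a + (N ^ (k + 1)) b = 0 := by rw [← map_add]; exact hv
      have h1 : (N ^ (k + 1)) a = 0 := disjoint_def.1 hWR.disjoint _ (pow_mem_of_invariant hW _ a ha)
        (by rw [eq_neg_of_add_eq_zero_left h]; exact neg_mem (pow_mem_of_invariant hR _ b hb))
      exact ⟨h1, by rwa [h1, zero_add] at h⟩
    rw [map_add]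
    exact add_mem_sup ⟨a, ⟨ha, h0.1⟩, rfl⟩ ⟨b, ⟨hb, h0.2⟩, rfl⟩
  have hd : layerSpace N W k ⊓ layerSpace N R k = ⊥ := by
    refine le_bot_iff.1 (le_trans (inf_le_inf ?_ ?_) (le_of_eq hWR.inf_eq_bot))
    · rintro _ ⟨v, ⟨hv, -⟩, rfl⟩; exact pow_mem_of_invariant hW _ v hv
    · rintro _ ⟨v, ⟨hv, -⟩, rfl⟩; exact pow_mem_of_invariant hR _ v hv
  have := finrank_sup_add_finrank_inf_eq (layerSpace N W k) (layerSpace N R k)
  rw [hsup, hd, finrank_bot, add_zero] at this
  exact this

/-- An invariant summand has, for every size, at most as many blocks of that size as the whole space,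
and together they fill it up. -/
theorem exists_subpartition {N : Module.End F V} {p : ℕ} {μ : Multiset ℕ}
    (hμ : ∀ k, layerDim N ⊤ k = μ.countP fun b => k < b) (hp : N ^ p = 0)
    {W R : Submodule F V} (hWR : IsCompl W R) (hW : ∀ v ∈ W, N v ∈ W) (hR : ∀ v ∈ R, N v ∈ R) :
    ∃ ν : Multiset ℕ, ν ≤ μ ∧ ν.sum = Module.finrank F W := by
  let c : ℕ → ℕ := fun k => layerDim N W k - layerDim N W (k + 1)
  have hcount : ∀ k, μ.count (k + 1) + μ.countP (fun b => k + 1 < b) = μ.countP fun b => k < b := by
    intro k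
    clear hμ
    induction μ using Multiset.induction_on with
    | empty => simp
    | cons b μ ih =>
      simp only [Multiset.count_cons, Multiset.countP_cons]
      split_ifs <;> omega
  have hc : ∀ k, c k ≤ μ.count (k + 1) := by
    intro k
    have h1 := hcount k
    rw [← hμ, ← hμ, layerDim_split hWR hW hR, layerDim_split hWR hW hR] at h1
    have h2 := layerDim_succ_le hR k
    simp only [c]
    omega
  refine ⟨∑ k ∈ Finset.range p, Multiset.replicate (c k) (k + 1), ?_, ?_⟩
  · rw [Multiset.le_iff_count]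
    intro b
    rw [Multiset.count_sum']
    simp only [Multiset.count_replicate]
    rcases Nat.eq_zero_or_pos b with rfl | hb
    · simp
    · rw [Finset.sum_eq_single (b - 1) (fun k _ hk => if_neg (by omega)) (fun hb' => by
        rw [if_pos (by omega)]
        have hv : layerDim N W (b - 1) = 0 := by
          simp only [Finset.mem_range, not_lt] at hb'
          have hz : N ^ (b - 1) = 0 := pow_eq_zero_of_le hb' hp
          rw [layerDim, layerSpace, hz, Submodule.map_zero, finrank_bot]
        simp [c, hv])]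
      rw [if_pos (by omega)]
      have h3 := hc (b - 1)
      rwa [show b - 1 + 1 = b by omega] at h3
  · have hs : ∀ s : Finset ℕ, Multiset.sum (∑ k ∈ s, Multiset.replicate (c k) (k + 1)) =
        ∑ k ∈ s, c k * (k + 1) := by
      intro s
      induction s using Finset.induction with
      | empty => simp
      | insert k s hk ih => simp [Finset.sum_insert hk, ih]
    rw [hs]
    have key : ∀ m, ∑ k ∈ Finset.range m, c k * (k + 1) + m * layerDim N W m =
        ∑ k ∈ Finset.range m, layerDim N W k := by
      intro m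
      induction m with
      | zero => simp
      | succ m ih =>
        rw [Finset.sum_range_succ, Finset.sum_range_succ, ← ih]
        obtain ⟨e, he⟩ := Nat.exists_eq_add_of_le (layerDim_succ_le hW m)
        simp only [c, he, Nat.add_sub_cancel_left]
        ring
    have hv : layerDim N W p = 0 := by
      rw [layerDim, layerSpace, hp, Submodule.map_zero, finrank_bot]
    have := key p
    rw [hv, mul_zero, add_zero, sum_layerDim, hp, LinearMap.ker_zero, inf_top_eq] at this
    exact this

/-- A nilpotent map with prescribed block sizes. -/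
theorem exists_nilpotent_model (F : Type*) [Field F] (μ : Multiset ℕ) :
    ∃ N : Module.End F (Fin μ.sum → F), (∀ k, layerDim N ⊤ k = μ.countP fun b => k < b) ∧
      ∀ p, (∀ b ∈ μ, b ≤ p) → N ^ p = 0 := by
  classical
  let L := μ.toList
  let ι := Σ i : Fin L.length, Fin (L.get i)
  have hι : Fintype.card ι = μ.sum := by
    rw [Fintype.card_sigma]
    simp only [Fintype.card_fin]
    rw [← List.sum_ofFn, List.ofFn_get, Multiset.sum_toList]
  let e : ι ≃ Fin μ.sum := Fintype.equivFinOfCardEq hι
  let E : (Fin μ.sum → F) ≃ₗ[F] (ι → F) := LinearEquiv.funCongrLeft F F e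
  let S : Module.End F (ι → F) :=
    { toFun := fun v x => if (x.2 : ℕ) = 0 then 0 else v ⟨x.1, ⟨x.2 - 1, by omega⟩⟩
      map_add' := fun u v => by funext x; simp only [Pi.add_apply]; split_ifs <;> simp
      map_smul' := fun c v => by funext x; simp only [Pi.smul_apply]; split_ifs <;> simp }
  have hS : ∀ k v (x : ι), (S ^ k) v x =
      if (x.2 : ℕ) < k then 0 else v ⟨x.1, ⟨x.2 - k, by omega⟩⟩ := by
    intro k
    induction k with
    | zero => intro v x; simp
    | succ k ih =>
      intro v x
      rw [pow_succ, Module.End.mul_apply, ih]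
      by_cases h1 : (x.2 : ℕ) < k
      · rw [if_pos h1, if_pos (by omega)]
      · rw [if_neg h1]
        show (if (x.2 : ℕ) - k = 0 then 0 else v ⟨x.1, ⟨x.2 - k - 1, by omega⟩⟩) = _
        by_cases h2 : (x.2 : ℕ) < k + 1
        · rw [if_pos h2, if_pos (by omega)]
        · rw [if_neg h2, if_neg (by omega)]
          congr 1
  refine ⟨E.symm.toLinearMap ∘ₗ S ∘ₗ E.toLinearMap, ?_, ?_⟩
  · intro k
    have hconj : ∀ m v, ((E.symm.toLinearMap ∘ₗ S ∘ₗ E.toLinearMap) ^ m : Module.End F (Fin μ.sum → F)) v
        = E.symm ((S ^ m) (E v)) := by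
      intro m
      induction m with
      | zero => intro v; simp
      | succ m ih =>
        intro v
        rw [pow_succ', Module.End.mul_apply, ih, pow_succ', Module.End.mul_apply]
        simp
    have hmap : layerSpace (E.symm.toLinearMap ∘ₗ S ∘ₗ E.toLinearMap) ⊤ k =
        (layerSpace S ⊤ k).map E.symm.toLinearMap := by
      ext v
      constructor
      · rintro ⟨u, ⟨-, hu⟩, rfl⟩
        refine ⟨_, ⟨E u, ⟨trivial, ?_⟩, rfl⟩, (hconj k u).symm⟩
        have hu' : E.symm ((S ^ (k + 1)) (E u)) = 0 := (hconj _ u).symm.trans hu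
        exact E.symm.map_eq_zero_iff.1 hu'
      · rintro ⟨_, ⟨u, ⟨-, hu⟩, rfl⟩, rfl⟩
        refine ⟨E.symm u, ⟨trivial, ?_⟩, ?_⟩
        · show ((E.symm.toLinearMap ∘ₗ S ∘ₗ E.toLinearMap) ^ (k + 1)) (E.symm u) = 0
          rw [hconj, E.apply_symm_apply, LinearMap.mem_ker.1 hu, map_zero]
        · rw [hconj, E.apply_symm_apply]; rfl
    rw [layerDim, hmap, LinearEquiv.finrank_map_eq]
    let P := {i : Fin L.length // k < L.get i}
    let Φ : (P → F) →ₗ[F] (ι → F) :=
      { toFun := fun c x => if h : k < L.get x.1 ∧ (x.2 : ℕ) + 1 = L.get x.1 then c ⟨x.1, h.1⟩ else 0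
        map_add' := fun u v => by funext x; simp only [Pi.add_apply]; split_ifs <;> simp
        map_smul' := fun c v => by funext x; simp only [Pi.smul_apply]; split_ifs <;> simp }
    have hΦ : Function.Injective Φ := by
      intro u v h
      funext i
      have := congrFun h ⟨i.1, ⟨L.get i.1 - 1, by have := i.2; omega⟩⟩
      have hh : k < L.get i.1 ∧ L.get i.1 - 1 + 1 = L.get i.1 := ⟨i.2, by have := i.2; omega⟩
      simp only [Φ, LinearMap.coe_mk, AddHom.coe_mk, dif_pos hh] at this
      exact this
    have hrange : layerSpace S ⊤ k = LinearMap.range Φ := by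
      apply le_antisymm
      · rintro _ ⟨v, ⟨-, hv⟩, rfl⟩
        refine ⟨fun i => (S ^ k) v ⟨i.1, ⟨L.get i.1 - 1, by have := i.2; omega⟩⟩, funext fun x => ?_⟩
        show (if h : _ then _ else (0 : F)) = _
        split_ifs with h
        · exact congrArg ((S ^ k) v) (Sigma.ext rfl (heq_of_eq (Fin.ext (by simp only; omega))))
        · by_cases hk : (x.2 : ℕ) < k
          · rw [hS, if_pos hk]
          · have hlt : (x.2 : ℕ) + 1 < L.get x.1 := by
              have := x.2.2
              by_contra hh
              exact h ⟨by omega, by omega⟩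
            have := congrFun (LinearMap.mem_ker.1 hv) ⟨x.1, ⟨x.2 + 1, hlt⟩⟩
            rw [hS, if_neg (by simp only; omega)] at this
            rw [hS, if_neg hk]
            simp only [Nat.add_sub_add_right, Pi.zero_apply] at this
            exact this.symm
      · rintro _ ⟨c, rfl⟩
        refine ⟨fun x => if h : k < L.get x.1 ∧ (x.2 : ℕ) + k + 1 = L.get x.1 then c ⟨x.1, h.1⟩ else 0,
          ⟨trivial, ?_⟩, ?_⟩
        · refine LinearMap.mem_ker.2 (funext fun x => ?_)
          rw [hS]
          split_ifs with h1 h2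
          · rfl
          · exfalso
            have := x.2.2
            simp only at h2
            omega
          · rfl
        · funext x
          rw [hS]
          show _ = if h : k < L.get x.1 ∧ (x.2 : ℕ) + 1 = L.get x.1 then c ⟨x.1, h.1⟩ else 0
          have := x.2.2
          by_cases h1 : (x.2 : ℕ) < k
          · rw [if_pos h1, dif_neg (by omega)]
          · rw [if_neg h1]
            by_cases h : k < L.get x.1 ∧ (x.2 : ℕ) + 1 = L.get x.1
            · rw [dif_pos h, dif_pos ⟨h.1, by simp only; omega⟩]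
            · rw [dif_neg h, dif_neg fun hh => h ⟨hh.1, by have := hh.2; simp only at this; omega⟩]
    rw [hrange, LinearMap.finrank_range_of_inj hΦ, Module.finrank_fintype_fun_eq_card,
      Fintype.card_subtype]
    conv_rhs => rw [← μ.coe_toList]
    show _ = Multiset.countP _ (L : Multiset ℕ)
    conv_rhs => rw [← List.ofFn_get L]
    rw [← Fin.univ_val_map, Multiset.countP_map]
    rfl
  · intro p hp
    apply LinearMap.ext
    intro v
    have hconj : ∀ m v, ((E.symm.toLinearMap ∘ₗ S ∘ₗ E.toLinearMap) ^ m : Module.End F (Fin μ.sum → F)) v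
        = E.symm ((S ^ m) (E v)) := by
      intro m
      induction m with
      | zero => intro v; simp
      | succ m ih =>
        intro v
        rw [pow_succ', Module.End.mul_apply, ih, pow_succ', Module.End.mul_apply]
        simp
    rw [hconj, LinearMap.zero_apply, LinearEquiv.map_eq_zero_iff]
    funext x
    rw [hS, if_pos]
    · rfl
    · have h1 := hp (L.get x.1) (μ.mem_toList.1 (L.get_mem x.1))
      have := x.2.2
      omega

end Cfsg.Agent.Elusive

namespace Cfsg.Agent.Elusive

open Polynomial

variable {F : Type*} [Field F] {V : Type*} [AddCommGroup V] [Module F V]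

/-- In characteristic `p`, `(f - 1) ^ (p - 1) = 1 + f + ⋯ + f ^ (p - 1)`. -/
theorem sub_one_pow_pred (p : ℕ) [Fact p.Prime] [CharP F p] (f : Module.End F V) :
    (f - 1) ^ (p - 1) = ∑ i ∈ Finset.range p, f ^ i := by
  have h : ((X : F[X]) - 1) ^ (p - 1) = ∑ i ∈ Finset.range p, (X : F[X]) ^ i := by
    refine mul_right_cancel₀ (X_sub_C_ne_zero (1 : F)) ?_
    rw [map_one, geom_sum_mul, ← pow_succ, Nat.sub_add_cancel (Fact.out : p.Prime).one_le,
      sub_pow_char, one_pow]
  simpa using congrArg (Polynomial.aeval f) h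

variable [FiniteDimensional F V]

/-- If an element of order dividing `p` moves a summand of a decomposition, it has many blocks of full size. -/
theorem finrank_le_layerDim {t : ℕ} (p : ℕ) [Fact p.Prime] [CharP F p] {f : Module.End F V}
    (hf : f ^ p = 1) {D : Fin t → Submodule F V} (hD : iSupIndep D)
    (σ : Equiv.Perm (Fin t)) (hσ : ∀ j, (D j).map f = D (σ j)) (hne : ∀ j, D j ≠ ⊥) {j0 : Fin t}
    (hj0 : σ j0 ≠ j0) : Module.finrank F (D j0) ≤ layerDim (f - 1) ⊤ (p - 1) := by
  classical
  have hpp := (Fact.out : p.Prime)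
  have hpow : ∀ i j, (D j).map (f ^ i) = D ((σ ^ i) j) := by
    intro i
    induction i with
    | zero => intro j; simp [Module.End.one_eq_id]
    | succ i ih =>
      intro j
      rw [pow_succ', Module.End.mul_eq_comp, Submodule.map_comp, ih, hσ, pow_succ', Equiv.Perm.mul_apply]
  have hinjD : Function.Injective D := fun i j h => by
    by_contra hne'
    have h1 : Disjoint (D i) (D j) := hD.pairwiseDisjoint hne'
    rw [h] at h1
    exact hne j (disjoint_self.1 h1)
  have hσp : σ ^ p = 1 := Equiv.ext fun j => hinjD (by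
    rw [← hpow, hf, Module.End.one_eq_id, Submodule.map_id, Equiv.Perm.one_apply])
  have hord : orderOf σ = p := orderOf_eq_prime hσp fun h => hj0 (by rw [h]; rfl)
  have hinjσ : ∀ i k, i < p → k < p → (σ ^ i) j0 = (σ ^ k) j0 → i = k := by
    intro i k hi hk he
    have hper : Function.minimalPeriod (σ : Fin t → Fin t) j0 = p := by
      refine Function.minimalPeriod_eq_prime ?_ (fun h => hj0 h)
      show (σ : Fin t → Fin t)^[p] j0 = j0
      rw [← Equiv.Perm.coe_pow, hσp]; rfl
    rw [Equiv.Perm.coe_pow, Equiv.Perm.coe_pow] at he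
    exact Function.iterate_injOn_Iio_minimalPeriod (by rw [hper]; exact hi) (by rw [hper]; exact hk) he
  have hN : (f - 1) ^ p = 0 := by
    rw [show (f - 1) ^ p = (f - 1) ^ (p - 1) * (f - 1) by
      rw [← pow_succ, Nat.sub_add_cancel hpp.one_le], sub_one_pow_pred p f, geom_sum_mul, hf, sub_self]
  let g := (f - 1) ^ (p - 1)
  have hg : Function.Injective (g.domRestrict (D j0)) := by
    refine (injective_iff_map_eq_zero _).2 fun v hv => Subtype.ext ?_
    have hv' : ∑ i ∈ Finset.range p, (f ^ i) (v : V) = 0 := by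
      rw [← LinearMap.sum_apply, ← sub_one_pow_pred p f]
      exact hv
    rw [Finset.sum_range] at hv'
    have hinj : Function.Injective fun i : Fin p => (σ ^ (i : ℕ)) j0 := fun a b h =>
      Fin.ext (hinjσ _ _ a.2 b.2 h)
    have h0 := (iSupIndep_iff_finsetSum_eq_zero_imp_eq_zero _).1 (hD.comp hinj) Finset.univ
      (fun i : Fin p => (f ^ (i : ℕ)) (v : V))
      (fun i _ => (hpow i j0).le ⟨v, v.2, rfl⟩) hv' ⟨0, hpp.pos⟩ (Finset.mem_univ _)
    simpa using h0
  rw [← LinearMap.finrank_range_of_inj hg, LinearMap.range_domRestrict]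
  refine Submodule.finrank_mono ?_
  rintro _ ⟨v, -, rfl⟩
  refine ⟨v, ⟨trivial, ?_⟩, rfl⟩
  show ((f - 1) ^ (p - 1 + 1)) v = 0
  rw [Nat.sub_add_cancel hpp.one_le, hN]
  rfl

end Cfsg.Agent.Elusive
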