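import Cfsg.Agent.UClass.Dual

/-!
The factors of `X ^ r - 1` over a field with `q ^ 2` elements, paired by the conjugate dual, as in
`Cfsg.Agent.UClass.card_GU_primeOrder_classes`.
-/

set_option autoImplicit false
set_option linter.all false

namespace Cfsg.Agent.Elusive

open Polynomial Module Cfsg.Agent.Classical Cfsg.Agent.UClass
open scoped Matrix

/-- The irreducible factors of `X ^ r - 1` other than `X - 1`, with the involution given by the conjugate dual. -/
structure DualFactors {F : Type*} [Field F] {q : ℕ} (hF : U.SqField F q) (r b : ℕ) where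
  s : Finset F[X]
  τ : s → s
  notMem : (X - 1 : F[X]) ∉ s
  irr : ∀ f ∈ s, Irreducible f
  deg : ∀ f ∈ s, f.natDegree = b
  card_mul : s.card * b = r - 1
  cop : ∀ f ∈ (letI := Classical.decEq F[X]; insert (X - 1 : F[X]) s), ∀ g ∈ (letI := Classical.decEq F[X]; insert (X - 1 : F[X]) s),
    f ≠ g → IsCoprime f g
  prod : ∏ f ∈ (letI := Classical.decEq F[X]; insert (X - 1 : F[X]) s), f = X ^ r - 1
  tau_tau : ∀ f, τ (τ f) = f
  dual : ∀ (n : ℕ) (g : GL (Fin n) F), g ^ r = 1 → ∀ f : s,
    nullity (aeval ((dualGL hF g : GL (Fin n) F) : Matrix (Fin n) (Fin n) F) (f : F[X])) =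
      nullity (aeval (g : Matrix (Fin n) (Fin n) F) (τ f : F[X]))

theorem exists_dualFactors {F : Type*} [Field F] [Fintype F] {q p r i b : ℕ} [Fact p.Prime] [CharP F p]
    (hK : Fintype.card F = q ^ 2) (hr : r.Prime) (hr2 : r ≠ 2) (hrp : r ≠ p) (hi : i = orderOf (q : ZMod r))
    (hb : b = if Odd i then i else i / 2) :
    ∃ S : DualFactors (U.sqField_of_fintype hK) r b, ∀ f, S.τ f = f ↔ i % 4 = 2 := by
  classical
  haveI : Fact r.Prime := ⟨hr⟩
  have hF := U.sqField_of_fintype hK
  obtain ⟨e, -, hqe⟩ := FiniteField.card F p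
  have hrF : (r : F) ≠ 0 := by
    rw [Ne, CharP.cast_eq_zero_iff F p]
    exact fun h => hrp ((Nat.prime_dvd_prime_iff_eq Fact.out hr).1 h).symm
  have hQ : ((Fintype.card F : ℕ) : ZMod r) ≠ 0 := by
    rw [Ne, CharP.cast_eq_zero_iff (ZMod r) r, hqe]
    exact fun h => hrp ((Nat.prime_dvd_prime_iff_eq hr Fact.out).1 (hr.dvd_of_dvd_pow h))
  have hq0 : (q : ZMod r) ≠ 0 := fun h => hQ (by rw [hK, Nat.cast_pow, h, zero_pow two_ne_zero])
  obtain ⟨s, hX, hirr, hdeg, hcard, hcop, hprod⟩ := ClassConj.exists_factors (F := F) hr hrF hQ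
  have hi0 : 0 < i := hi ▸ (IsUnit.isOfFinOrder (Ne.isUnit hq0)).orderOf_pos
  have hord : orderOf ((Fintype.card F : ℕ) : ZMod r) = b := by
    rw [hK, Nat.cast_pow, orderOf_pow' _ two_ne_zero, ← hi, hb]
    split_ifs with hodd
    · rw [Nat.coprime_two_right.2 hodd |>.gcd_eq_one, Nat.div_one]
    · rw [Nat.gcd_eq_right (Nat.not_odd_iff_even.1 hodd).two_dvd]
  rw [hord] at hdeg hcard
  have hb0 : 0 < b := hord ▸ (IsUnit.isOfFinOrder (Ne.isUnit hQ)).orderOf_pos
  -- monic members
  have hdvd : ∀ f ∈ s, f ∣ X ^ r - 1 := fun f hf =>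
    hprod ▸ Finset.dvd_prod_of_mem _ (Finset.mem_insert_of_mem hf)
  have hlc : ∀ f ∈ s, f.leadingCoeff ≠ 0 := fun f hf => leadingCoeff_ne_zero.2 (hirr f hf).ne_zero
  have hunique : ∀ {L : Type _} [Field L] [Algebra F L] (x : L) (f g : s), aeval x (f : F[X]) = 0 →
      aeval x (g : F[X]) = 0 → f = g := by
    intro L _ _ x f g hf hg
    by_contra hne
    obtain ⟨a, c, hac⟩ := hcop f (Finset.mem_insert_of_mem f.2) g (Finset.mem_insert_of_mem g.2)
      (fun e => hne (Subtype.ext e))
    have := congrArg (aeval x) hac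
    rw [map_add, map_mul, map_mul, hf, hg, mul_zero, mul_zero, add_zero, map_one] at this
    exact zero_ne_one this
  let μ : F[X] → F[X] := fun f => f * C (f.leadingCoeff)⁻¹
  have hμu : ∀ f ∈ s, Associated f (μ f) := fun f hf =>
    ⟨Units.map C.toMonoidHom (Units.mk0 _ (inv_ne_zero (hlc f hf))), rfl⟩
  have hμm : ∀ f ∈ s, (μ f).Monic := fun f hf => monic_mul_leadingCoeff_inv (hirr f hf).ne_zero
  have hμd : ∀ f ∈ s, μ f ∣ X ^ r - 1 := fun f hf => (hμu f hf).dvd_iff_dvd_left.1 (hdvd f hf)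
  -- the permutation
  have hτ0 : ∀ f : s, ∃ g : s, Associated (dualPoly hF (μ f)) (g : F[X]) := by
    intro f
    obtain ⟨hm, hd, hdv, -⟩ := dualPoly_facts hF hr.pos (hμm f f.2) (hμd f f.2)
    have hd' : (dualPoly hF (μ f)).natDegree = b := by
      rw [hd, natDegree_mul_C (inv_ne_zero (hlc f f.2))]; exact hdeg f f.2
    have hnu : ¬ IsUnit (dualPoly hF (μ f)) := fun h => by
      rw [natDegree_eq_zero_of_isUnit h] at hd'; omega
    obtain ⟨π, hπ, hπd⟩ := WfDvdMonoid.exists_irreducible_factor hnu hm.ne_zero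
    obtain ⟨g, hg, hgd⟩ := (hπ.prime.dvd_finsetProd_iff _).1 (hprod ▸ hπd.trans hdv)
    have hgirr : Irreducible g := by
      rcases Finset.mem_insert.1 hg with rfl | hg
      · simpa using irreducible_X_sub_C (1 : F)
      · exact hirr g hg
    have hgd' : g ∣ dualPoly hF (μ f) := ((hπ.associated_of_dvd hgirr hgd).symm.dvd).trans hπd
    rcases Finset.mem_insert.1 hg with rfl | hg
    · exfalso
      have h1 : (dualPoly hF (μ f)).IsRoot 1 := by
        refine dvd_iff_isRoot.1 ?_
        simpa using hgd'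
      have h2 : (μ f).IsRoot 1 := by
        rw [IsRoot, dualPoly, eval_mul, eval_C, mul_eq_zero] at h1
        have h3 := h1.resolve_right (inv_ne_zero (dualPoly_facts hF hr.pos (hμm f f.2) (hμd f f.2)).2.2.2)
        letI : Invertible (1 : F) := invertibleOne
        have h4 := eval₂_reverse_mul_pow (RingHom.id F) (1 : F) ((μ f).map (Forms.sqConj hF))
        rw [invOf_one, eval₂_id, eval₂_id, h3, zero_mul] at h4
        have h5 : Polynomial.eval (Forms.sqConj hF 1) ((μ f).map (Forms.sqConj hF)) = 0 := by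
          rw [map_one]; exact h4.symm
        rw [eval_map_apply, map_eq_zero] at h5
        exact h5
      have h6 : (X - 1 : F[X]) ∣ (f : F[X]) :=
        ((by simpa using dvd_iff_isRoot.2 h2 : (X - 1 : F[X]) ∣ μ f)).trans (hμu f f.2).symm.dvd
      have h7 := (hcop _ (Finset.mem_insert_self _ _) f (Finset.mem_insert_of_mem f.2) (fun e => hX (e ▸ f.2))).isUnit_of_dvd' dvd_rfl h6
      exact hgirr.not_isUnit h7
    · refine ⟨⟨g, hg⟩, (associated_of_dvd_of_natDegree_le hgd' hm.ne_zero ?_).symm⟩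
      rw [hd', hdeg g hg]
  choose τ hτ using hτ0
  -- roots
  obtain ⟨p', k, hp', hchar, hqk⟩ := hF.exists_char
  obtain rfl : p' = p := CharP.eq F hchar ‹CharP F p›
  have hstep : ∀ {L : Type _} [Field L] [Algebra F L] (x : L) (f : s), x ^ r = 1 → aeval x (f : F[X]) = 0 →
      aeval ((x ^ q) ^ (r - 1)) (τ f : F[X]) = 0 := by
    intro L _ _ x f hx hf
    haveI : CharP L p' := charP_of_injective_algebraMap (algebraMap F L).injective p'
    have hμf : aeval x (μ f) = 0 := by
      show aeval x ((f : F[X]) * _) = 0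
      rw [map_mul, hf, zero_mul]
    set z := x ^ q
    have hz : z ^ r = 1 := by rw [← pow_mul, mul_comm, pow_mul, hx, one_pow]
    set g := (μ f).map (Forms.sqConj hF)
    have hgz : eval₂ (algebraMap F L) z g = 0 := by
      rw [eval₂_map]
      have h1 : (iterateFrobenius L p' k).comp (algebraMap F L) = (algebraMap F L).comp (Forms.sqConj hF) := by
        refine RingHom.ext fun c => ?_
        show (algebraMap F L c) ^ (p' ^ k) = algebraMap F L (c ^ q)
        rw [← hqk, map_pow]
      rw [← h1, show z = iterateFrobenius L p' k x by rw [iterateFrobenius_def, ← hqk],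
        ← hom_eval₂, ← aeval_def, hμf, map_zero]
    letI : Invertible z := ⟨z ^ (r - 1), by rw [← pow_succ, Nat.sub_add_cancel hr.pos, hz],
      by rw [← pow_succ', Nat.sub_add_cancel hr.pos, hz]⟩
    have h2 := eval₂_reverse_mul_pow (algebraMap F L) z g
    rw [hgz, show ⅟z = z ^ (r - 1) from rfl, mul_eq_zero] at h2
    have hz0 : z ≠ 0 := fun e => by rw [e, zero_pow hr.ne_zero] at hz; exact zero_ne_one hz
    have h3 : aeval (z ^ (r - 1)) (dualPoly hF (μ f)) = 0 := by
      rw [dualPoly, map_mul, aeval_def, h2.resolve_right (pow_ne_zero _ hz0), zero_mul]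
    obtain ⟨u, hu⟩ := hτ f
    rw [← hu, map_mul, h3, zero_mul]
  have hrootOf : ∀ f : s, ∀ [Fact (Irreducible (f : F[X]))],
      (AdjoinRoot.root (f : F[X])) ^ r = 1 ∧ orderOf (AdjoinRoot.root (f : F[X])) = r := by
    intro f _
    have hζ : (AdjoinRoot.root (f : F[X])) ^ r = 1 := by
      have := AdjoinRoot.mk_eq_zero.2 (hdvd f f.2)
      rwa [map_sub, map_pow, map_one, AdjoinRoot.mk_X, sub_eq_zero] at this
    refine ⟨hζ, orderOf_eq_prime hζ fun h1 => ?_⟩
    have h2 : (f : F[X]) ∣ X - 1 := AdjoinRoot.mk_eq_zero.1 (by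
      rw [map_sub, map_one, AdjoinRoot.mk_X]; exact sub_eq_zero.2 h1)
    exact (hirr f f.2).not_isUnit ((hcop _ (Finset.mem_insert_self _ _) f (Finset.mem_insert_of_mem f.2)
      (fun e => hX (e ▸ f.2))).isUnit_of_dvd' h2 dvd_rfl)
  have hrootEq : ∀ f : s, ∀ [Fact (Irreducible (f : F[X]))] (m m' : ℕ), (m : ZMod r) = (m' : ZMod r) →
      (AdjoinRoot.root (f : F[X])) ^ m = (AdjoinRoot.root (f : F[X])) ^ m' := by
    intro f _ m m' h
    rw [← pow_mod_orderOf, (hrootOf f).2, (ZMod.natCast_eq_natCast_iff' _ _ _).1 h]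
    conv_rhs => rw [← pow_mod_orderOf, (hrootOf f).2]
  have hroots : ∀ f : s, ∀ [Fact (Irreducible (f : F[X]))] (j : ℕ),
      aeval ((AdjoinRoot.root (f : F[X])) ^ (Fintype.card F ^ j)) (f : F[X]) = 0 := by
    intro f _ j
    haveI : CharP (AdjoinRoot (f : F[X])) p' :=
      charP_of_injective_algebraMap (algebraMap F (AdjoinRoot (f : F[X]))).injective p'
    induction j with
    | zero => rw [pow_zero, pow_one, AdjoinRoot.aeval_eq, AdjoinRoot.mk_self]
    | succ j ih =>
      have h1 : (iterateFrobenius (AdjoinRoot (f : F[X])) p' (k * 2)).comp (algebraMap F (AdjoinRoot (f : F[X]))) =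
          algebraMap F (AdjoinRoot (f : F[X])) := by
        refine RingHom.ext fun c => ?_
        show (algebraMap F (AdjoinRoot (f : F[X])) c) ^ (p' ^ (k * 2)) = algebraMap F _ c
        rw [pow_mul p', ← hqk, ← map_pow, ← hK, FiniteField.pow_card]
      rw [aeval_def, ← h1, show (AdjoinRoot.root (f : F[X])) ^ (Fintype.card F ^ (j + 1)) =
        iterateFrobenius _ p' (k * 2) ((AdjoinRoot.root (f : F[X])) ^ (Fintype.card F ^ j)) by
          rw [iterateFrobenius_def, pow_mul p', ← hqk, ← hK, ← pow_mul, ← pow_succ],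
        ← hom_eval₂, ← aeval_def, ih, map_zero]
  have hcastη : (((q * (r - 1) : ℕ)) : ZMod r) = -(q : ZMod r) := by
    rw [Nat.cast_mul, Nat.cast_sub hr.one_le, ZMod.natCast_self, Nat.cast_one, zero_sub, mul_neg, mul_one]
  have hττ : ∀ f : s, τ (τ f) = f := by
    intro f
    haveI : Fact (Irreducible (f : F[X])) := ⟨hirr f f.2⟩
    obtain ⟨hζ, -⟩ := hrootOf f
    set ζ := AdjoinRoot.root (f : F[X])
    have h1 := hstep ζ f hζ (by rw [AdjoinRoot.aeval_eq, AdjoinRoot.mk_self])
    have h2 := hstep _ (τ f) (by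
      rw [← pow_mul ζ q, ← pow_mul, mul_comm (q * (r - 1)) r, pow_mul, hζ, one_pow]) h1
    refine hunique ((ζ ^ (Fintype.card F)) : AdjoinRoot (f : F[X])) _ _ ?_ (by simpa using hroots f 1)
    have e : ζ ^ (Fintype.card F) = (((ζ ^ q) ^ (r - 1)) ^ q) ^ (r - 1) := by
      rw [← pow_mul ζ q, ← pow_mul ζ (q * (r - 1)), ← pow_mul ζ (q * (r - 1) * q)]
      refine hrootEq f _ _ ?_
      rw [show q * (r - 1) * q * (r - 1) = (q * (r - 1)) * (q * (r - 1)) by ring, Nat.cast_mul, hcastη, hK,
        neg_mul_neg, Nat.cast_pow, sq]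
    rw [e]
    exact h2
  have hfix : ∀ f : s, τ f = f ↔ i % 4 = 2 := by
    intro f
    haveI : Fact (Irreducible (f : F[X])) := ⟨hirr f f.2⟩
    obtain ⟨hζ, hζo⟩ := hrootOf f
    set ζ := AdjoinRoot.root (f : F[X])
    have h1 := hstep ζ f hζ (by rw [AdjoinRoot.aeval_eq, AdjoinRoot.mk_self])
    rw [← pow_mul] at h1
    constructor
    · intro h
      rw [h] at h1
      have hmod : ∀ j j', j < b → j' < b → ζ ^ (Fintype.card F ^ j) = ζ ^ (Fintype.card F ^ j') → j = j' := by
        intro j j' hj hj' e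
        rw [(isOfFinOrder_iff_pow_eq_one.2 ⟨r, hr.pos, hζ⟩).pow_eq_pow_iff_modEq, hζo, ← ZMod.natCast_eq_natCast_iff, Nat.cast_pow, Nat.cast_pow] at e
        exact pow_injOn_Iio_orderOf (x := ((Fintype.card F : ℕ) : ZMod r)) (Set.mem_Iio.2 (hord ▸ hj))
          (Set.mem_Iio.2 (hord ▸ hj')) e
      have hsub : ((Finset.range b).image fun j => ζ ^ (Fintype.card F ^ j)) ⊆
          ((f : F[X]).aroots (AdjoinRoot (f : F[X]))).toFinset := by
        intro x hx
        obtain ⟨j, -, rfl⟩ := Finset.mem_image.1 hx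
        rw [Multiset.mem_toFinset, mem_aroots]
        exact ⟨(hirr f f.2).ne_zero, hroots f j⟩
      have hle : ((f : F[X]).aroots (AdjoinRoot (f : F[X]))).toFinset.card ≤ b :=
        (Multiset.toFinset_card_le _).trans (((card_roots' _).trans natDegree_map_le).trans_eq (hdeg f f.2))
      have heq := Finset.eq_of_subset_of_card_le hsub (hle.trans_eq (by
        rw [Finset.card_image_of_injOn (fun j hj j' hj' e => hmod j j' (Finset.mem_range.1 hj) (Finset.mem_range.1 hj') e),
          Finset.card_range]))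
      have hmem : ζ ^ (q * (r - 1)) ∈ ((f : F[X]).aroots (AdjoinRoot (f : F[X]))).toFinset := by
        rw [Multiset.mem_toFinset, mem_aroots]; exact ⟨(hirr f f.2).ne_zero, h1⟩
      rw [← heq, Finset.mem_image] at hmem
      obtain ⟨j, -, hj⟩ := hmem
      rw [(isOfFinOrder_iff_pow_eq_one.2 ⟨r, hr.pos, hζ⟩).pow_eq_pow_iff_modEq, hζo, ← ZMod.natCast_eq_natCast_iff, hcastη, hK, Nat.cast_pow, Nat.cast_pow,
        ← pow_mul] at hj
      have hexp : (q : ZMod r) ^ (2 * (j + i) - 1) = -1 := by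
        have h3 : (q : ZMod r) ^ (2 * (j + i) - 1) * q = -1 * q := by
          rw [← pow_succ, Nat.sub_add_cancel (by omega), mul_add, pow_add, hj, mul_comm 2 i, pow_mul, hi,
            pow_orderOf_eq_one, one_pow, mul_one, neg_mul, one_mul]
        exact mul_right_cancel₀ hq0 h3
      set E := 2 * (j + i) - 1
      have h4 : i ∣ 2 * E := hi ▸ orderOf_dvd_of_pow_eq_one (by rw [mul_comm, pow_mul, hexp, neg_one_sq])
      have h5 : ¬ i ∣ E := fun h5 => by
        rw [hi, orderOf_dvd_iff_pow_eq_one, hexp] at h5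
        have h6 : ((2 : ℕ) : ZMod r) = 0 := by push_cast; linear_combination -h5
        rw [CharP.cast_eq_zero_iff (ZMod r) r] at h6
        exact hr2 ((Nat.prime_dvd_prime_iff_eq hr Nat.prime_two).1 h6)
      rcases Nat.even_or_odd i with hie | hio
      · obtain ⟨c, rfl⟩ := hie
        rw [← two_mul] at h4
        have hcE : c ∣ E := Nat.dvd_of_mul_dvd_mul_left two_pos h4
        have : Odd c := (Nat.odd_iff.2 (by omega : E % 2 = 1)).of_dvd_nat hcE
        obtain ⟨d, rfl⟩ := this
        omega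
      · exact absurd ((Nat.coprime_two_right.2 hio).dvd_of_dvd_mul_left h4) h5
    · intro hi4
      have hneg : (q : ZMod r) ^ (i / 2) = -1 := by
        have h2 : ((q : ZMod r) ^ (i / 2)) ^ 2 = 1 := by
          rw [← pow_mul, show i / 2 * 2 = i by omega, hi, pow_orderOf_eq_one]
        refine ((sq_eq_one_iff.1 h2).resolve_left fun h3 => ?_)
        have hdd : i ∣ i / 2 := by
          have := orderOf_dvd_of_pow_eq_one h3
          rwa [← hi] at this
        have := Nat.le_of_dvd (by omega) hdd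
        omega
      refine hunique _ _ _ h1 ?_
      rw [hrootEq f (q * (r - 1)) (Fintype.card F ^ ((i / 2 + 1) / 2)) (by
        rw [hcastη, hK, Nat.cast_pow, Nat.cast_pow, ← pow_mul, show 2 * ((i / 2 + 1) / 2) = i / 2 + 1 by omega,
          pow_succ, hneg, neg_one_mul])]
      exact hroots f _
  refine ⟨{ s := s, τ := τ, notMem := hX, irr := hirr, deg := hdeg, card_mul := hcard, cop := ?_, prod := ?_, tau_tau := hττ, dual := ?_ }, hfix⟩
  · convert hcop
  · convert hprod
  intro n g hg f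
  have hassoc : ∀ {f f' : F[X]}, Associated f f' →
      ∀ (x : GL (Fin n) F), nullity (aeval (x : Matrix (Fin n) (Fin n) F) f) =
        nullity (aeval (x : Matrix (Fin n) (Fin n) F) f') := by
    rintro f f' ⟨u, rfl⟩ x
    rw [mul_comm f, map_mul]
    exact (nullity_unit_mul ((u.isUnit).map _) _).symm
  rw [hassoc (hμu f f.2), nullity_aeval_dual hF hr.pos (hμm f f.2) (hμd f f.2) hg, hassoc (hτ f)]

end Cfsg.Agent.Elusive
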